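import Groth.Agent.MdlA1.LimClosed
import Groth.Agent.ModPairLib.Basic
import Groth.Agent.S7382
import Groth.Agent.MorLib.IdealFG
import Groth.Agent.CIntLib.TransRegSch
import Groth.Agent.S4613
import Groth.Agent.S12442
import Mathlib.AlgebraicGeometry.ZariskisMainTheorem

/-!
# Zariski's main theorem with a finitely presented finite morphism
-/

universe u

set_option autoImplicit false
set_option linter.style.haveILetI false
set_option backward.isDefEq.respectTransparency false

open CategoryTheory CategoryTheory.Limits AlgebraicGeometry TopologicalSpace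

namespace Groth.Agent.RelPC13.ZMT

/-- A quasi-finite separated morphism of finite type is a closed immersion into an open of a finitely
presented finite scheme. -/
theorem exists_closed_in_open {T S : Scheme.{u}} [CompactSpace S] [QuasiSeparatedSpace S] (f : T ⟶ S)
    [IsSeparated f] [QuasiCompact f] [LocallyOfFiniteType f] [LocallyQuasiFinite f] :
    ∃ (Z : Scheme.{u}) (h : Z ⟶ S) (W : Z.Opens) (g₁ : T ⟶ (W : Scheme.{u})),
      IsFinite h ∧ LocallyOfFinitePresentation h ∧ IsClosedImmersion g₁ ∧ g₁ ≫ W.ι ≫ h = f := by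
  classical
  obtain ⟨I, _, hdir, _, D, c, hc, hD, ⟨e⟩⟩ := S7382.result f.fromNormalization
  haveI : IsDirectedOrder I := hdir
  haveI : IsConnected Iᵒᵖ := IsCofiltered.isConnected _
  let F := D ⋙ Over.forget S
  let cF : Cone F := (Over.forget S).mapCone c
  have hcF : IsLimit cF := isLimitOfPreserves (Over.forget S) hc
  haveI hA : ∀ {i j : Iᵒᵖ} (a : i ⟶ j), IsAffineHom (F.map a) := by
    intro i j a
    haveI := (hD i).1
    haveI := (hD j).1
    haveI : IsAffineHom ((D.map a).left ≫ (D.obj j).hom) := by rw [Over.w]; infer_instance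
    exact IsAffineHom.of_comp (D.map a).left (D.obj j).hom
  haveI : CompactSpace T := QuasiCompact.compactSpace_of_compactSpace f
  have hw : ∀ i, cF.π.app i ≫ (D.obj i).hom = c.pt.hom := fun i => Over.w (c.π.app i)
  -- the embedding of the source in the limit
  haveI : IsIso e.inv.left := inferInstanceAs (IsIso ((Over.forget S).map e.inv))
  let j₁ : T ⟶ cF.pt := f.toNormalization ≫ e.inv.left
  haveI : IsOpenImmersion j₁ := inferInstanceAs (IsOpenImmersion (f.toNormalization ≫ e.inv.left))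
  have hj₁ : j₁ ≫ c.pt.hom = f :=
    (Category.assoc _ _ _).trans
      ((congrArg (f.toNormalization ≫ ·) (Over.w e.inv)).trans f.toNormalization_fromNormalization)
  haveI hint : IsIntegralHom c.pt.hom := by
    have : c.pt.hom = e.hom.left ≫ f.fromNormalization := (Over.w e.hom).symm
    rw [this]
    haveI : IsIso e.hom.left := inferInstanceAs (IsIso ((Over.forget S).map e.hom))
    infer_instance
  obtain ⟨i₀, Ω, hΩ, hpre⟩ := exists_preimage_eq F cF hcF j₁.opensRange (isCompact_range j₁.continuous)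
  let W : cF.pt.Opens := cF.π.app i₀ ⁻¹ᵁ Ω
  let eT : T ≅ (W : Scheme.{u}) := IsOpenImmersion.isoOfRangeEq j₁ W.ι (by
    rw [Scheme.Opens.range_ι, show W = j₁.opensRange from hpre]; rfl)
  have heT : eT.hom ≫ W.ι = j₁ := IsOpenImmersion.isoOfRangeEq_hom_fac _ _ _
  let E := opensCone F cF i₀ Ω
  let a₀ : Over i₀ := Over.mk (𝟙 i₀)
  let pE : ∀ l, (W : Scheme.{u}) ⟶ (opensDiagram F i₀ Ω).obj l := fun l => E.π.app l
  haveI : CompactSpace ((opensDiagram F i₀ Ω).obj a₀) := by
    show CompactSpace (F.map (𝟙 i₀) ⁻¹ᵁ Ω : Scheme.{u})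
    rw [F.map_id]
    exact isCompact_iff_compactSpace.mp hΩ
  haveI hfinE : IsFinite (pE a₀) := by
    haveI := (hD i₀).1
    haveI hπ : IsIntegralHom (cF.π.app i₀) := by
      haveI : IsIntegralHom (cF.π.app i₀ ≫ (D.obj i₀).hom) := by rw [hw]; exact hint
      exact IsIntegralHom.of_comp (cF.π.app i₀) (D.obj i₀).hom
    haveI : IsIntegralHom (pE a₀) := by
      refine (MdlA1.LimClosed.resLE_iff (P := @IsIntegralHom) (cF.π.app i₀) _ _ _ ?_).2
        (IsZariskiLocalAtTarget.restrict (P := @IsIntegralHom) hπ _)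
      show cF.π.app i₀ ⁻¹ᵁ Ω = cF.π.app i₀ ⁻¹ᵁ (F.map (𝟙 i₀) ⁻¹ᵁ Ω)
      rw [F.map_id]; rfl
    haveI : LocallyOfFiniteType (pE a₀) := by
      let σ : (opensDiagram F i₀ Ω).obj a₀ ⟶ S := (F.map (𝟙 i₀) ⁻¹ᵁ Ω).ι ≫ (D.obj i₀).hom
      have hσ : pE a₀ ≫ σ = eT.inv ≫ f := by
        rw [← hj₁, ← heT, Category.assoc, Iso.inv_hom_id_assoc, ← hw i₀]
        show (cF.π.app i₀).resLE _ _ _ ≫ (F.map (𝟙 i₀) ⁻¹ᵁ Ω).ι ≫ (D.obj i₀).hom = _
        rw [Scheme.Hom.resLE_comp_ι_assoc]
      haveI : LocallyOfFiniteType (pE a₀ ≫ σ) := by rw [hσ]; infer_instance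
      exact locallyOfFiniteType_of_comp (pE a₀) σ
    exact (IsFinite.iff_isIntegralHom_and_locallyOfFiniteType _).2 ⟨inferInstance, inferInstance⟩
  haveI : IsFinite (E.π.app a₀) := hfinE
  obtain ⟨k, -, hk⟩ := MdlA1.LimClosed.exists_isClosedImmersion (opensDiagram F i₀ Ω) E
    (isLimitOpensCone F cF hcF i₀ Ω) a₀
  let Wk : (F.obj k.left).Opens := F.map k.hom ⁻¹ᵁ Ω
  haveI : IsClosedImmersion (pE k) := hk
  let g₁ : T ⟶ (Wk : Scheme.{u}) := eT.hom ≫ pE k
  haveI : IsClosedImmersion g₁ := @IsClosedImmersion.comp _ _ _ eT.hom (pE k) inferInstance hk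
  let g : T ⟶ F.obj k.left := g₁ ≫ Wk.ι
  have hg : g ≫ (D.obj k.left).hom = f := by
    rw [← hj₁, ← heT, ← hw k.left]
    simp only [g, g₁, Category.assoc]
    refine congrArg (eT.hom ≫ ·) ?_
    show (cF.π.app k.left).resLE _ _ _ ≫ (F.map k.hom ⁻¹ᵁ Ω).ι ≫ _ = _
    rw [Scheme.Hom.resLE_comp_ι_assoc]
  exact ⟨F.obj k.left, (D.obj k.left).hom, Wk, g₁, (hD k.left).1, (hD k.left).2, inferInstance,
    (Category.assoc _ _ _).symm.trans hg⟩

/-- A closed subscheme of an open is open in an extension of its ideal. -/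
theorem exists_openImmersion_subscheme {X V Z : Scheme.{u}} (K : Z.IdealSheafData) (ι : V ⟶ Z) [IsOpenImmersion ι]
    (g : X ⟶ V) [IsClosedImmersion g] (hK : K.comap ι = g.ker) :
    ∃ j : X ⟶ K.subscheme, IsOpenImmersion j ∧ j ≫ K.subschemeι = g ≫ ι := by
  obtain ⟨e, he⟩ : ∃ e : X ≅ (K.comap ι).subscheme, e.hom ≫ (K.comap ι).subschemeι = g := by
    rw [hK]
    exact ⟨asIso g.toImage, g.toImage_imageι⟩
  refine ⟨e.hom ≫ (K.comapIso ι).hom ≫ pullback.snd ι K.subschemeι, inferInstance, ?_⟩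
  rw [Category.assoc, Category.assoc, ← pullback.condition, Scheme.IdealSheafData.comapIso_hom_fst_assoc,
    ← Category.assoc, he]

/-- Zariski's main theorem: the finite morphism may be taken of finite presentation. -/
theorem exists_finite_fp_factor {X S : Scheme.{u}} [CompactSpace S] [QuasiSeparatedSpace S] (f : X ⟶ S)
    [IsSeparated f] [QuasiCompact f] [LocallyQuasiFinite f] [LocallyOfFinitePresentation f] :
    ∃ (T : Scheme.{u}) (j : X ⟶ T) (π : T ⟶ S), IsOpenImmersion j ∧ QuasiCompact j ∧ IsFinite π ∧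
      LocallyOfFinitePresentation π ∧ j ≫ π = f := by
  classical
  obtain ⟨Z, h, W, g₁, _, _, _, hf⟩ := exists_closed_in_open f
  haveI : CompactSpace Z := QuasiCompact.compactSpace_of_compactSpace h
  haveI : QuasiSeparatedSpace Z := quasiSeparatedSpace_of_quasiSeparated h
  haveI : LocallyOfFinitePresentation g₁ := by
    haveI : LocallyOfFinitePresentation (g₁ ≫ W.ι ≫ h) := by rw [hf]; infer_instance
    exact S12442.locallyOfFinitePresentation_of_comp g₁ (W.ι ≫ h)
  haveI : QuasiCompact (g₁ ≫ W.ι) := by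
    haveI : QuasiCompact ((g₁ ≫ W.ι) ≫ h) := by rw [Category.assoc, hf]; infer_instance
    exact QuasiCompact.of_comp (g₁ ≫ W.ι) h
  let I := (g₁ ≫ W.ι).ker
  have hI : I.comap W.ι = g₁.ker := by
    refine Scheme.IdealSheafData.ext (funext fun U => ?_)
    rw [Scheme.IdealSheafData.ideal_comap_of_isOpenImmersion]
    exact (Scheme.ker_ideal_of_isPullback_of_isOpenImmersion (g₁ ≫ W.ι) g₁ (𝟙 X) W.ι
      (IsPullback.of_vert_isIso_mono ⟨(Category.id_comp (g₁ ≫ W.ι)).symm⟩) U).symm
  -- on affine opens inside `W` the ideal is finitely generated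
  have hfg : ∀ U : (W : Scheme.{u}).affineOpens,
      (I.ideal ⟨W.ι ''ᵁ U.1, U.2.image_of_isOpenImmersion _⟩).FG := by
    intro U
    have h1 : (g₁.ker.ideal U).FG := CIntLib.ideal_ker_fg g₁ U
    rw [← hI, Scheme.IdealSheafData.ideal_comap_of_isOpenImmersion] at h1
    have h2 := h1.map (W.ι.appIso U.1).inv.hom
    rwa [Ideal.map_comap_of_surjective _
      (ConcreteCategory.bijective_of_isIso (W.ι.appIso U.1).inv).2] at h2
  haveI : CompactSpace X := QuasiCompact.compactSpace_of_compactSpace f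
  -- a finite affine cover of the image of `X` in `W`
  obtain ⟨s, hs⟩ : ∃ s : Finset (W : Scheme.{u}).affineOpens, ∀ x : X, ∃ U ∈ s, g₁ x ∈ U.1 := by
    obtain ⟨t, ht⟩ := (isCompact_range g₁.continuous).elim_finite_subcover
      (fun U : (W : Scheme.{u}).affineOpens => (U.1 : Set W)) (fun U => U.1.isOpen) fun x _ => by
        obtain ⟨U, hU, hxU, -⟩ := exists_isAffineOpen_mem_and_subset (x := x) (U := (⊤ : (W : Scheme.{u}).Opens)) trivial
        exact Set.mem_iUnion.2 ⟨⟨U, hU⟩, hxU⟩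
    exact ⟨t, fun x => by simpa using ht ⟨x, rfl⟩⟩
  choose K hKI hKfg hKU using fun U : s =>
    MorLib.IdealFG.exists_fg_le I ⟨W.ι ''ᵁ U.1.1, U.1.2.image_of_isOpenImmersion _⟩ _ (hfg U.1) le_rfl
  let K' := Finset.univ.sup K
  have hK'I : K' ≤ I := Finset.sup_le fun U _ => hKI U
  have hK'fg : ∀ V, (K'.ideal V).FG := by
    intro V
    show ((Finset.univ.sup K).ideal V).FG
    induction (Finset.univ : Finset s) using Finset.induction_on with
    | empty => simp only [Finset.sup_empty, Scheme.IdealSheafData.ideal_bot, Pi.bot_apply]; exact Submodule.fg_bot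
    | insert U t _ ih =>
      rw [Finset.sup_insert, Scheme.IdealSheafData.ideal_sup, Pi.sup_apply]
      exact Submodule.FG.sup (hKfg U V) ih
  -- the open where both ideals agree
  let W₀ : (W : Scheme.{u}).Opens := ⨆ U : s, U.1.1
  let ι₀ : (W₀ : Scheme.{u}) ⟶ Z := W₀.ι ≫ W.ι
  have hrange : Set.range g₁ ⊆ Set.range W₀.ι := by
    rintro _ ⟨x, rfl⟩
    rw [Scheme.Opens.range_ι]
    obtain ⟨U, hUs, hxU⟩ := hs x
    exact Opens.mem_iSup.2 ⟨⟨U, hUs⟩, hxU⟩
  let g₀ : X ⟶ W₀ := IsOpenImmersion.lift W₀.ι g₁ hrange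
  have hg₀ : g₀ ≫ W₀.ι = g₁ := IsOpenImmersion.lift_fac _ _ _
  haveI : IsClosedImmersion g₀ := by
    haveI : IsClosedImmersion (g₀ ≫ W₀.ι) := by rw [hg₀]; infer_instance
    exact IsClosedImmersion.of_comp g₀ W₀.ι
  have hK : K'.comap ι₀ = g₀.ker := by
    have h1 : K'.comap ι₀ = I.comap ι₀ := by
      rw [Scheme.IdealSheafData.comap_comp, Scheme.IdealSheafData.comap_comp]
      refine Scheme.IdealSheafData.ext_of_iSup_eq_top (ι := s)
        (fun U => ⟨W₀.ι ⁻¹ᵁ U.1.1, U.1.2.preimage_of_isOpenImmersion _ (by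
          rw [Scheme.Opens.opensRange_ι]; exact le_iSup (fun U : s => U.1.1) U)⟩)
        (top_le_iff.1 fun w _ => by
          obtain ⟨U, hU⟩ := Opens.mem_iSup.1 (show W₀.ι w ∈ W₀ from w.2)
          exact Opens.mem_iSup.2 ⟨U, hU⟩) fun U => ?_
      have h2 : (K'.comap W.ι).ideal U.1 = (I.comap W.ι).ideal U.1 := by
        rw [Scheme.IdealSheafData.ideal_comap_of_isOpenImmersion, Scheme.IdealSheafData.ideal_comap_of_isOpenImmersion]
        congr 1
        exact le_antisymm (hK'I _) ((hKU U).trans (Scheme.IdealSheafData.le_def.1 (Finset.le_sup (f := K) (Finset.mem_univ U)) _))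
      have hl : ∀ (J J' : (W : Scheme.{u}).IdealSheafData) (U₁ : (W : Scheme.{u}).affineOpens)
          (V : (W₀ : Scheme.{u}).affineOpens), W₀.ι ''ᵁ V.1 = U₁.1 → J.ideal U₁ = J'.ideal U₁ →
          (J.comap W₀.ι).ideal V = (J'.comap W₀.ι).ideal V := by
        rintro J J' ⟨U₁, hU₁⟩ V (e : _ = U₁) he
        subst e
        rw [Scheme.IdealSheafData.ideal_comap_of_isOpenImmersion, Scheme.IdealSheafData.ideal_comap_of_isOpenImmersion]
        exact congrArg _ he
      refine hl _ _ U.1 _ ?_ h2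
      rw [Scheme.Hom.image_preimage_eq_opensRange_inf, Scheme.Opens.opensRange_ι, inf_eq_right]
      exact le_iSup (fun U : s => U.1.1) U
    rw [h1]
    refine Scheme.IdealSheafData.ext (funext fun U => ?_)
    rw [Scheme.IdealSheafData.ideal_comap_of_isOpenImmersion]
    exact (Scheme.ker_ideal_of_isPullback_of_isOpenImmersion (g₁ ≫ W.ι) g₀ (𝟙 X) ι₀
      (IsPullback.of_vert_isIso_mono ⟨by rw [Category.id_comp, ← Category.assoc, hg₀]⟩) U).symm
  obtain ⟨j, hjo, hj⟩ := exists_openImmersion_subscheme K' ι₀ g₀ hK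
  haveI : LocallyOfFinitePresentation K'.subschemeι := by
    refine (S4613.result K'.subschemeι).2 fun V => ?_
    rw [← Scheme.Hom.ker_apply, Scheme.IdealSheafData.ker_subschemeι]
    exact hK'fg V
  have hj' : j ≫ K'.subschemeι = g₁ ≫ W.ι := by rw [hj, ← Category.assoc, hg₀]
  have hjf : j ≫ K'.subschemeι ≫ h = f := by rw [← Category.assoc, hj', Category.assoc, hf]
  haveI : QuasiCompact j := by
    haveI : QuasiCompact (j ≫ K'.subschemeι ≫ h) := by rw [hjf]; infer_instance
    exact QuasiCompact.of_comp j (K'.subschemeι ≫ h)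
  exact ⟨K'.subscheme, j, K'.subschemeι ≫ h, inferInstance, inferInstance, inferInstance, inferInstance, hjf⟩

end Groth.Agent.RelPC13.ZMT
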